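import Mathlib

/-!
The second cohomology of a finite group in the units of a separably closed field with trivial action.
-/

set_option autoImplicit false

open CategoryTheory groupCohomology

namespace Groth.GalCohUnits

variable {Q : Type} [Group Q]

theorem d_two_apply (g : (Fin 2 → Q) → ℤ) (v : Fin 3 → Q) :
    inhomogeneousCochains.d (Rep.trivial ℤ Q ℤ) 2 g v =
      g ![v 1, v 2] - g ![v 0 * v 1, v 2] + g ![v 0, v 1 * v 2] - g ![v 0, v 1] := by
  rw [inhomogeneousCochains.d_hom_apply, Fin.sum_univ_three]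
  have e0 : (fun i : Fin 2 => v i.succ) = ![v 1, v 2] := by funext i; fin_cases i <;> rfl
  have e1 : Fin.contractNth 0 (· * ·) v = ![v 0 * v 1, v 2] := by funext i; fin_cases i <;> rfl
  have e2 : Fin.contractNth 1 (· * ·) v = ![v 0, v 1 * v 2] := by funext i; fin_cases i <;> rfl
  have e3 : Fin.contractNth 2 (· * ·) v = ![v 0, v 1] := by funext i; fin_cases i <;> rfl
  rw [e0, e1, e2, e3]
  simp only [Rep.trivial]
  simp
  ring

/-- An integral cochain whose coboundary is divisible can be corrected to a cocycle. -/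
theorem exists_cocycle_congr (hQ : Subsingleton (groupCohomology (Rep.trivial ℤ Q ℤ) 3)) (n : ℤ)
    (hn : n ≠ 0) (g : Q → Q → ℤ)
    (hg : ∀ a b c, n ∣ g b c - g (a * b) c + g a (b * c) - g a b) :
    ∃ g' : Q → Q → ℤ, (∀ a b c, g' b c - g' (a * b) c + g' a (b * c) - g' a b = 0) ∧
      ∀ a b, n ∣ g' a b - g a b := by
  let A := Rep.trivial ℤ Q ℤ
  let G₂ : (Fin 2 → Q) → ℤ := fun v => g (v 0) (v 1)
  choose C₀ hC₀ using hg
  let C : (Fin 3 → Q) → ℤ := fun v => C₀ (v 0) (v 1) (v 2)
  have hG : inhomogeneousCochains.d A 2 G₂ = (n • C : (Fin 3 → Q) → ℤ) := by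
    funext v
    refine (d_two_apply G₂ v).trans ?_
    show _ = n * _
    simp [G₂, C, hC₀]
  have hC : inhomogeneousCochains.d A 3 C = 0 := by
    have h : inhomogeneousCochains.d A 3 (inhomogeneousCochains.d A 2 G₂) = 0 := by
      rw [← ConcreteCategory.comp_apply, inhomogeneousCochains.d_comp_d]; rfl
    rw [hG] at h
    erw [map_zsmul] at h
    funext v
    exact (mul_eq_zero.1 (congrFun h v : n * _ = 0)).resolve_left hn
  have hex : (inhomogeneousCochains A).ExactAt 3 := by
    rw [HomologicalComplex.exactAt_iff_isZero_homology]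
    haveI := hQ
    exact ModuleCat.isZero_of_subsingleton (groupCohomology A 3)
  rw [HomologicalComplex.exactAt_iff' _ 2 3 4 (by simp) (by simp),
    ShortComplex.moduleCat_exact_iff] at hex
  obtain ⟨B, hB⟩ := hex C (by
    show (inhomogeneousCochains A).d 3 4 C = 0
    rw [inhomogeneousCochains.d_def]; exact hC)
  replace hB : inhomogeneousCochains.d A 2 B = C := by
    rw [← inhomogeneousCochains.d_def]; exact hB
  refine ⟨fun a b => g a b - n * (B : (Fin 2 → Q) → ℤ) ![a, b], fun a b c => ?_, fun a b => ?_⟩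
  · have h := (d_two_apply B ![a, b, c]).symm.trans (congrFun hB _)
    have h0 := hC₀ a b c
    simp [C] at h
    linear_combination h0 - n * h
  · exact ⟨-(B : (Fin 2 → Q) → ℤ) ![a, b], by ring⟩

/-- The cardinality of the group kills two-cocycles with trivial action. -/
theorem prod_cocycle [Fintype Q] {M : Type} [CommGroup M] (f : Q → Q → M)
    (hf : ∀ a b c, f (a * b) c * f a b = f b c * f a (b * c)) (a b : Q) :
    (∏ c, f (a * b) c) * f a b ^ Fintype.card Q = (∏ c, f b c) * ∏ c, f a c := by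
  rw [← Finset.card_univ, ← Finset.prod_const, ← Finset.prod_mul_distrib,
    Fintype.prod_congr _ _ fun c => hf a b c, Finset.prod_mul_distrib]
  congr 1
  exact Equiv.prod_comp (Equiv.mulLeft b) fun c => f a c

theorem exists_coboundary [Fintype Q] (hQ : Subsingleton (groupCohomology (Rep.trivial ℤ Q ℤ) 3))
    {k : Type} [Field k] [IsSepClosed k] (hn : (Fintype.card Q : k) ≠ 0) (f : Q → Q → kˣ)
    (hf : ∀ a b c, f (a * b) c * f a b = f b c * f a (b * c)) :
    ∃ x : Q → kˣ, ∀ a b, f a b = x b / x (a * b) * x a := by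
  classical
  haveI : NeZero (Fintype.card Q : k) := ⟨hn⟩
  set n := Fintype.card Q with hn_def
  haveI : NeZero n := ⟨Fintype.card_ne_zero⟩
  have root : ∀ u : kˣ, ∃ v : kˣ, v ^ n = u := fun u => by
    obtain ⟨z, hz⟩ := IsSepClosed.exists_pow_nat_eq (u : k) n
    refine ⟨Units.mk0 z fun h0 => u.ne_zero ?_, Units.ext (by simpa using hz)⟩
    rw [← hz, h0, zero_pow (NeZero.ne n)]
  choose r hr using root
  let h : Q → kˣ := fun a => r (∏ c, f a c)
  let f₁ : Q → Q → kˣ := fun a b => f a b * (h (a * b) / (h b * h a))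
  have h₁ : ∀ a b, f₁ a b ^ n = 1 := fun a b => by
    simp only [f₁, h, mul_pow, div_pow, hr]
    rw [mul_div, div_eq_one, mul_comm, prod_cocycle f hf]
  have hf₁ : ∀ a b c, f₁ (a * b) c * f₁ a b = f₁ b c * f₁ a (b * c) := fun a b c => by
    apply Units.ext
    have := congrArg Units.val (hf a b c)
    simp only [Units.val_mul] at this
    simp only [f₁, Units.val_mul, Units.val_div_eq_div_val, mul_assoc a b c]
    field_simp
    linear_combination this
  obtain ⟨z, hz⟩ := IsSepClosed.exists_root (Polynomial.cyclotomic n k)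
    (ne_of_gt (Polynomial.degree_cyclotomic_pos n k (NeZero.pos n))) (Polynomial.separable_cyclotomic n k)
  rw [Polynomial.isRoot_cyclotomic_iff] at hz
  obtain ⟨ζ, hζz⟩ := hz.isUnit (NeZero.ne n)
  have hζ : IsPrimitiveRoot ζ n := IsPrimitiveRoot.coe_units_iff.1 (hζz ▸ hz)
  have hgex : ∀ a b, ∃ i : ℕ, ζ ^ i = f₁ a b := fun a b => by
    obtain ⟨i, -, hi⟩ := hz.eq_pow_of_pow_eq_one (ξ := (f₁ a b : k)) (by
      rw [← Units.val_pow_eq_pow_val, h₁]; rfl)
    exact ⟨i, Units.ext (by simp [hζz, hi])⟩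
  choose g hg using hgex
  obtain ⟨g', hg'c, hg'⟩ := exists_cocycle_congr hQ (n : ℤ) (by exact_mod_cast NeZero.ne n)
    (fun a b => (g a b : ℤ)) (fun a b c => by
      rw [← hζ.zpow_eq_one_iff_dvd]
      simp only [zpow_sub, zpow_add, zpow_natCast, hg, ← div_eq_mul_inv]
      rw [div_mul_eq_mul_div, div_div, div_eq_one, ← hf₁])
  have hgf : ∀ a b, ζ ^ g' a b = f₁ a b := fun a b => by
    rw [← hg, ← zpow_natCast, ← div_eq_one, div_eq_mul_inv, ← zpow_sub, hζ.zpow_eq_one_iff_dvd]
    exact hg' a b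
  have hF : ∀ a b, (n : ℤ) * g' a b = (∑ c, g' b c) + (∑ c, g' a c) - ∑ c, g' (a * b) c := fun a b => by
    have := congrArg Multiplicative.toAdd (prod_cocycle (M := Multiplicative ℤ) (Q := Q)
      (fun a b => Multiplicative.ofAdd (g' a b)) (fun a b c => Multiplicative.toAdd.injective (by
        simp only [toAdd_mul, toAdd_ofAdd]; linarith [hg'c a b c])) a b)
    simp only [toAdd_mul, toAdd_prod, toAdd_ofAdd, toAdd_pow, nsmul_eq_mul] at this
    linarith
  refine ⟨fun a => h a * r ζ ^ (∑ c, g' a c), fun a b => ?_⟩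
  have h2 : f₁ a b = r ζ ^ (∑ c, g' b c) * r ζ ^ (∑ c, g' a c) / r ζ ^ (∑ c, g' (a * b) c) := by
    rw [← hgf a b, ← zpow_add, div_eq_mul_inv, ← zpow_sub, ← hF a b, zpow_mul, zpow_natCast, hr]
  calc f a b = f₁ a b * (h b * h a / h (a * b)) := by
        simp only [f₁, mul_assoc, div_mul_div_cancel, div_self', mul_one]
    _ = _ := by
      rw [h2]
      apply Units.ext
      simp only [Units.val_mul, Units.val_div_eq_div_val]
      field_simp

theorem subsingleton_H2 [Finite Q] (hQ : Subsingleton (groupCohomology (Rep.trivial ℤ Q ℤ) 3))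
    (k : Type) [Field k] [IsSepClosed k] (hn : (Nat.card Q : k) ≠ 0) :
    Subsingleton (groupCohomology (Rep.trivial ℤ Q (Additive kˣ)) 2) := by
  haveI := Fintype.ofFinite Q
  rw [Nat.card_eq_fintype_card] at hn
  let A := Rep.trivial ℤ Q (Additive kˣ)
  refine subsingleton_of_forall_eq 0 fun x => ?_
  induction x using H2_induction_on with
  | h φ =>
    obtain ⟨x, hx⟩ := exists_coboundary hQ hn
      (fun a b => Additive.toMul (α := kˣ) ((φ : Q × Q → Additive kˣ) (a, b))) (fun a b c => by
        apply Additive.ofMul.injective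
        exact (mem_cocycles₂_iff (A := A) (φ : Q × Q → Additive kˣ)).1 φ.2 a b c)
    rw [H2π_eq_zero_iff]
    refine ⟨fun a => Additive.ofMul (x a), ?_⟩
    funext p
    obtain ⟨a, b⟩ := p
    show Additive.ofMul (x b) - Additive.ofMul (x (a * b)) + Additive.ofMul (x a) = _
    exact (congrArg Additive.ofMul (hx a b)).symm

end Groth.GalCohUnits
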