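import Mathlib.RepresentationTheory.Rep.Basic
import Mathlib.Algebra.Homology.ShortComplex.ModuleCat
import Mathlib.CategoryTheory.Abelian.Exact

/-!
Elementwise criterion for exactness of a short complex of representations, stated over a general
coefficient ring (over `ℤ` the forgetful functor to modules is not found by instance search).
-/

set_option autoImplicit false

universe u

open CategoryTheory

namespace Groth.GalCohUnits

theorem repShortComplex_exact {k G : Type u} [CommRing k] [Group G]
    (S : ShortComplex (Rep.{u} k G))
    (h : ∀ x, S.g.hom x = 0 → ∃ y, S.f.hom y = x) : S.Exact :=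
  (forget₂ (Rep.{u} k G) (ModuleCat.{u} k)).reflects_exact_of_faithful S <|
    (ShortComplex.moduleCat_exact_iff _).2 h

end Groth.GalCohUnits
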